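import Groth.Agent.SchDesc.QAff
import Groth.Agent.SchDesc.Local
import Groth.Agent.ASp.Residual
import Groth.Agent.FpqcDesc.Basic
import Groth.Agent.HTopV.Fpqc
import Groth.Agent.SchDesc.TorsorDesc
import Groth.Agent.ASp.Affine
/-!
Sheaves which are affine schemes fppf locally on the base are affine schemes.
-/

set_option autoImplicit false
set_option backward.isDefEq.respectTransparency.types false
set_option linter.style.haveILetI false

universe u

open CategoryTheory CategoryTheory.Limits AlgebraicGeometry Opposite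

namespace Groth.Agent.AffDescShf

open _root_.AlgSp

variable {S : Scheme.{u}} {Z : Sp S} {T' : Over S}

/-- Two points of `T'` with one structure map and one value in the sheaf. -/
def SameVal (z : (yon S).obj T' ⟶ Z) {T : Scheme.{u}} (v v' : T ⟶ T'.left) : Prop :=
  ∃ h : v' ≫ T'.hom = v ≫ T'.hom,
    (yon S).map (Over.homMk v rfl : Over.mk (v ≫ T'.hom) ⟶ T') ≫ z =
      (yon S).map (Over.homMk v' h : Over.mk (v ≫ T'.hom) ⟶ T') ≫ z

variable {z : (yon S).obj T' ⟶ Z}

theorem sameVal_iff {W : Over S} (w w' : W ⟶ T') :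
    SameVal z w.left w'.left ↔ (yon S).map w ≫ z = (yon S).map w' ≫ z := by
  let e : W ≅ Over.mk (w.left ≫ T'.hom) := Over.isoMk (Iso.refl _) (by simp)
  have h : w'.left ≫ T'.hom = w.left ≫ T'.hom := (Over.w w').trans (Over.w w).symm
  have e1 : e.hom ≫ (Over.homMk w.left rfl : Over.mk (w.left ≫ T'.hom) ⟶ T') = w :=
    Over.OverMorphism.ext (Category.id_comp _)
  have e2 : e.hom ≫ (Over.homMk w'.left h : Over.mk (w.left ≫ T'.hom) ⟶ T') = w' :=
    Over.OverMorphism.ext (Category.id_comp _)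
  conv_rhs => rw [← e1, ← e2, Functor.map_comp, Functor.map_comp, Category.assoc, Category.assoc, cancel_epi]
  exact ⟨fun ⟨_, hh⟩ => hh, fun hh => ⟨h, hh⟩⟩

theorem SameVal.symm {T : Scheme.{u}} {v v' : T ⟶ T'.left} (h : SameVal z v v') : SameVal z v' v := by
  obtain ⟨h₁, h₂⟩ := h
  exact (sameVal_iff (Over.homMk v' h₁ : Over.mk (v ≫ T'.hom) ⟶ T') (Over.homMk v rfl)).2 h₂.symm

theorem SameVal.trans {T : Scheme.{u}} {v v' v'' : T ⟶ T'.left} (h : SameVal z v v') (h' : SameVal z v' v'') :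
    SameVal z v v'' := by
  obtain ⟨h₁, h₂⟩ := h
  have h₃ : v'' ≫ T'.hom = v ≫ T'.hom := h'.1.trans h₁
  exact ⟨h₃, h₂.trans ((sameVal_iff (Over.homMk v' h₁ : Over.mk (v ≫ T'.hom) ⟶ T') (Over.homMk v'' h₃)).1 h')⟩

theorem SameVal.comp {T T₁ : Scheme.{u}} {v v' : T ⟶ T'.left} (h : SameVal z v v') (g : T₁ ⟶ T) :
    SameVal z (g ≫ v) (g ≫ v') := by
  obtain ⟨h₁, h₂⟩ := h
  let g' : Over.mk (g ≫ v ≫ T'.hom) ⟶ Over.mk (v ≫ T'.hom) := Over.homMk g rfl
  refine (sameVal_iff (g' ≫ Over.homMk v rfl) (g' ≫ Over.homMk v' h₁)).2 ?_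
  rw [Functor.map_comp, Functor.map_comp, Category.assoc, Category.assoc, h₂]

variable {S' : Scheme.{u}} {f : S' ⟶ S}

set_option synthInstance.maxHeartbeats 400000 in
set_option maxHeartbeats 2000000 in
/-- A sheaf which becomes an affine scheme over an fppf cover of the base is a scheme affine over the base. -/
theorem exists_affine_of_cover [Flat f] [Surjective f] [LocallyOfFinitePresentation f]
    (a : T' ⟶ Over.mk f) [IsAffineHom a.left] (z : (yon S).obj T' ⟶ Z)
    (huniv : ∀ (W : Over S) (ζ : (yon S).obj W ⟶ Z) (x : W ⟶ Over.mk f),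
      ∃! v : W ⟶ T', (yon S).map v ≫ z = ζ ∧ v ≫ a = x) :
    ∃ T : Over S, IsAffineHom T.hom ∧ Nonempty ((yon S).obj T ≅ Z) := by
  haveI : SchDesc.IsFpqc f := SchDesc.IsFpqc.of_locallyOfFinitePresentation f
  have haf : a.left ≫ f = T'.hom := Over.w a
  have huni : ∀ {T : Scheme.{u}} {v v' : T ⟶ T'.left}, SameVal z v v' → v ≫ a.left = v' ≫ a.left → v = v' := by
    intro T v v' h e
    obtain ⟨h₁, h₂⟩ := h
    have := (huniv _ _ ((Over.homMk v rfl : Over.mk (v ≫ T'.hom) ⟶ T') ≫ a)).unique ⟨rfl, rfl⟩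
      (y₂ := Over.homMk v' h₁) ⟨h₂.symm, Over.OverMorphism.ext e.symm⟩
    exact congrArg CommaMorphism.left this
  have hex : ∀ {T : Scheme.{u}} (v : T ⟶ T'.left) (x : T ⟶ S'), (v ≫ a.left) ≫ f = x ≫ f →
      ∃ v' : T ⟶ T'.left, v' ≫ a.left = x ∧ SameVal z v v' := by
    intro T v x h
    let x' : Over.mk (v ≫ T'.hom) ⟶ Over.mk f := Over.homMk x (by
      change x ≫ f = v ≫ T'.hom
      rw [← h, Category.assoc, haf])
    obtain ⟨w, ⟨hw1, hw2⟩, -⟩ := huniv _ ((yon S).map (Over.homMk v rfl : Over.mk (v ≫ T'.hom) ⟶ T') ≫ z) x'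
    exact ⟨w.left, congrArg CommaMorphism.left hw2, (sameVal_iff (Over.homMk v rfl : Over.mk (v ≫ T'.hom) ⟶ T') w).2 hw1.symm⟩
  choose mv hmv₁ hmv₂ using @hex
  let D : _root_.Desc.SchDD f :=
    { obj := Over.mk a.left
      φ := fun T x₀ x₁ h =>
        { toFun := fun v => ⟨mv v.1 x₁ ((congrArg (· ≫ f) v.2).trans h), hmv₁ _ _ _⟩
          invFun := fun v => ⟨mv v.1 x₀ ((congrArg (· ≫ f) v.2).trans h.symm), hmv₁ _ _ _⟩
          left_inv := fun v => Subtype.ext (huni ((hmv₂ _ _ _).trans (hmv₂ _ _ _)).symm ((hmv₁ _ _ _).trans v.2.symm))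
          right_inv := fun v => Subtype.ext (huni ((hmv₂ _ _ _).trans (hmv₂ _ _ _)).symm ((hmv₁ _ _ _).trans v.2.symm)) }
      φ_natural := fun T T₁ g x₀ x₁ h h' v v' e => huni ((hmv₂ v'.1 _ _).symm.trans (e ▸ (hmv₂ v.1 _ _).comp g))
        (((hmv₁ _ _ _).trans (congrArg (g ≫ ·) (hmv₁ _ _ _)).symm).trans (Category.assoc _ _ _).symm)
      φ_self := fun T x v => Subtype.ext (huni (hmv₂ _ _ _).symm ((hmv₁ _ _ _).trans v.2.symm))
      φ_comp := fun T x₀ x₁ x₂ h h' v => Subtype.ext (huni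
        (((hmv₂ v.1 _ _).trans (hmv₂ _ _ _)).symm.trans (hmv₂ v.1 _ _)) ((hmv₁ _ _ _).trans (hmv₁ _ _ _).symm)) }
  obtain ⟨Q⟩ := SchDesc.quot_top_of_affine (p := f) @IsAffineHom
    (fun g g' hg => MorphismProperty.pullback_snd (P := @IsAffineHom) g g' hg) D (inferInstanceAs (IsAffineHom a.left))
    fun P₀ U₀ l q j hP₀ hU₀ hl hl' _ _ _ _ D' hD' => by
      haveI : IsAffine D'.obj.left := isAffine_of_isAffineHom D'.obj.hom
      exact SchDesc.quot_of_quasiAffine D'
  let π₀ : T'.left ⟶ Q.U := (Scheme.topIso T'.left).inv ≫ Q.π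
  have hpb : IsPullback a.left π₀ f Q.str := by
    refine Q.isPullback.of_iso (Scheme.topIso T'.left) (Iso.refl _) (Iso.refl _) (Iso.refl _) ?_ ?_ (by simp) (by simp)
    · simp [D]
    · simp [π₀]
  have haff : IsAffineHom Q.str := TorsorDesc.prop_of_isFpqc @IsAffineHom FpqcDesc.isAffineHom_descends Q.str f
    (by rw [← hpb.flip.isoPullback_inv_snd]; exact inferInstanceAs (IsAffineHom (_ ≫ a.left)))
  let U : Over S := Over.mk Q.str
  let π : T' ⟶ U := Over.homMk π₀ (by rw [← haf, hpb.w]; rfl)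
  have hmove : ∀ {T : Scheme.{u}} (v : T ⟶ T'.left) (x : T ⟶ S') (h : v ≫ a.left ≫ f = x ≫ f),
      SameVal z v (SchDesc.move D v x h) ∧ SchDesc.move D v x h ≫ a.left = x := by
    intro T v x h
    have h' : (v ≫ a.left) ≫ f = x ≫ f := (Category.assoc _ _ _).trans h
    have e : (D.φ (v ≫ a.left) x h' ⟨v, rfl⟩).1 = SchDesc.move D v x h := SchDesc.φ_eq_move D _ _ h' ⟨v, rfl⟩
    exact e ▸ ⟨hmv₂ _ _ _, hmv₁ _ _ _⟩
  have hι : ∀ {T : Scheme.{u}} (v : T ⟶ T'.left),
      (v ≫ (Scheme.topIso T'.left).inv) ≫ (⊤ : T'.left.Opens).ι = v := fun v => by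
    rw [← Scheme.topIso_hom, Category.assoc, Iso.inv_hom_id, Category.comp_id]
  have hπ_of : ∀ {T : Scheme.{u}} {v v' : T ⟶ T'.left}, SameVal z v v' → v ≫ π₀ = v' ≫ π₀ := by
    intro T v v' h
    have hc : v ≫ a.left ≫ f = (v' ≫ a.left) ≫ f := by rw [Category.assoc, haf, h.1]
    have := Q.inv (v ≫ (Scheme.topIso T'.left).inv) (v' ≫ (Scheme.topIso T'.left).inv) (v' ≫ a.left)
      (by rw [hι]; exact hc) (by
        refine ((SchDesc.move_congr D (hι v) _).trans ?_).trans (hι v').symm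
        exact huni ((hmove v _ hc).1.symm.trans h) (hmove v _ hc).2)
    simpa [π₀] using this
  have hof_π : ∀ {T : Scheme.{u}} {v v' : T ⟶ T'.left}, v ≫ π₀ = v' ≫ π₀ → SameVal z v v' := by
    intro T v v' h
    have h' : (v ≫ (Scheme.topIso T'.left).inv) ≫ Q.π = (v' ≫ (Scheme.topIso T'.left).inv) ≫ Q.π := by
      simpa [π₀] using h
    have e := Q.move_eq h'
    have e' := ((SchDesc.move_congr D (hι v) _).symm.trans e).trans (hι v')
    exact e' ▸ (hmove v _ _).1
  haveI : Flat π.left := MorphismProperty.of_isPullback hpb ‹Flat f›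
  haveI : LocallyOfFinitePresentation π.left := MorphismProperty.of_isPullback hpb ‹LocallyOfFinitePresentation f›
  haveI : Surjective π.left := MorphismProperty.of_isPullback hpb ‹Surjective f›
  haveI := ASp.epi_yon_map π
  have hk := IsPullback.of_hasPullback π π
  obtain ⟨b, hb⟩ := ASp.exists_desc_of_epi ((yon S).map π) (hk.map (yon S)) z
    ((sameVal_iff _ _).1 (hof_π (congrArg CommaMorphism.left hk.w)))
  have key : ∀ (W : Over S) (ζ : (yon S).obj W ⟶ Z), ∃! u : W ⟶ U, (yon S).map u ≫ b = ζ := by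
    intro W ζ
    let P₀ : Over S := Over.mk (pullback.fst W.hom f ≫ W.hom)
    let pr : P₀ ⟶ W := Over.homMk (pullback.fst _ _) rfl
    let x : P₀ ⟶ Over.mk f := Over.homMk (pullback.snd _ _) pullback.condition.symm
    haveI : SchDesc.IsFpqc (pullback.fst W.hom f) :=
      SchDesc.IsFpqc.of_isPullback (IsPullback.of_hasPullback W.hom f).flip
    haveI : Flat pr.left := inferInstanceAs (Flat (pullback.fst _ _))
    haveI : LocallyOfFinitePresentation pr.left := inferInstanceAs (LocallyOfFinitePresentation (pullback.fst _ _))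
    haveI : Surjective pr.left := inferInstanceAs (Surjective (pullback.fst _ _))
    haveI := ASp.epi_yon_map pr
    obtain ⟨v, ⟨hv, hva⟩, -⟩ := huniv P₀ ((yon S).map pr ≫ ζ) x
    let ul : W.left ⟶ Q.U := EffectiveEpi.desc (pullback.fst W.hom f) (v.left ≫ π₀) (fun {T} g₁ g₂ h => by
      let R : Over S := Over.mk (g₁ ≫ pullback.fst W.hom f ≫ W.hom)
      let k₁ : R ⟶ P₀ := Over.homMk g₁ rfl
      let k₂ : R ⟶ P₀ := Over.homMk g₂ (by
        change g₂ ≫ pullback.fst W.hom f ≫ W.hom = g₁ ≫ pullback.fst W.hom f ≫ W.hom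
        rw [← Category.assoc, ← Category.assoc, h])
      have hkk : k₁ ≫ pr = k₂ ≫ pr := Over.OverMorphism.ext h
      have : SameVal z (g₁ ≫ v.left) (g₂ ≫ v.left) := (sameVal_iff (k₁ ≫ v) (k₂ ≫ v)).2 (by
        rw [Functor.map_comp, Functor.map_comp, Category.assoc, Category.assoc, hv,
          ← Functor.map_comp_assoc, ← Functor.map_comp_assoc, hkk])
      simpa only [Category.assoc] using hπ_of this)
    have hul : pullback.fst W.hom f ≫ ul = v.left ≫ π₀ := EffectiveEpi.fac _ _ _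
    let u₀ : W ⟶ U := Over.homMk ul (by
      haveI : Epi (pullback.fst W.hom f) := inferInstance
      rw [← cancel_epi (pullback.fst W.hom f), reassoc_of% hul]
      exact (congrArg (v.left ≫ ·) (Over.w π)).trans (Over.w v))
    have hu₀ : pr ≫ u₀ = v ≫ π := Over.OverMorphism.ext hul
    refine ⟨u₀, ?_, fun u hu => ?_⟩
    · dsimp only
      rw [← cancel_epi ((yon S).map pr), ← Functor.map_comp_assoc, hu₀, Functor.map_comp_assoc, hb, hv]
    · obtain ⟨t, ht₁, ht₂⟩ : ∃ t : P₀ ⟶ T', t ≫ a = x ∧ t ≫ π = pr ≫ u := by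
        let tl : P₀.left ⟶ T'.left := hpb.lift x.left (pr.left ≫ u.left) (by
          rw [Category.assoc]
          exact (Over.w x).trans (congrArg (pr.left ≫ ·) (Over.w u)).symm)
        exact ⟨Over.homMk tl (by rw [← haf, ← Category.assoc, hpb.lift_fst]; exact Over.w x),
          Over.OverMorphism.ext (hpb.lift_fst _ _ _), Over.OverMorphism.ext (hpb.lift_snd _ _ _)⟩
      have htv : t = v := (huniv P₀ ((yon S).map pr ≫ ζ) x).unique
        ⟨by rw [← hb, ← Functor.map_comp_assoc, ht₂, Functor.map_comp_assoc, hu], ht₁⟩ ⟨hv, hva⟩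
      haveI : Epi pr.left := inferInstanceAs (Epi (pullback.fst W.hom f))
      haveI : Epi pr := Over.epi_of_epi_left pr
      rw [← cancel_epi pr, ← ht₂, htv, hu₀]
  refine ⟨U, haff, ?_⟩
  have : ∀ W, IsIso (((sheafToPresheaf (J S) (Type (u + 1))).map b).app W) := fun W => by
    refine (isIso_iff_bijective _).2 ⟨fun x y e => ?_, fun c => ?_⟩
    · obtain ⟨x⟩ := x
      obtain ⟨y⟩ := y
      refine congrArg ULift.up ((key W.unop ((J S).uliftYonedaEquiv.{u + 1}.symm (b.hom.app W ⟨x⟩))).unique ?_ ?_)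
      · exact (J S).uliftYonedaEquiv.{u + 1}.injective (Eq.trans (by simp; rfl) (Equiv.apply_symm_apply _ _).symm)
      · exact (J S).uliftYonedaEquiv.{u + 1}.injective
          ((Eq.trans (by simp; rfl) e.symm).trans (Equiv.apply_symm_apply _ _).symm)
    · obtain ⟨u, hu, -⟩ := key W.unop ((J S).uliftYonedaEquiv.{u + 1}.symm c)
      refine ⟨⟨u⟩, ?_⟩
      have := congrArg (J S).uliftYonedaEquiv.{u + 1} hu
      rw [Equiv.apply_symm_apply] at this
      exact this
  haveI : IsIso ((sheafToPresheaf (J S) (Type (u + 1))).map b) := NatIso.isIso_of_isIso_app _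
  haveI : IsIso b := isIso_of_fully_faithful (sheafToPresheaf (J S) (Type (u + 1))) b
  exact ⟨asIso b⟩

end Groth.Agent.AffDescShf
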