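import Groth.Agent.AffDescShf.Basic
/-!
Sheaves over a scheme which are schemes fppf locally are schemes, given effective descent.
-/

set_option autoImplicit false
set_option backward.isDefEq.respectTransparency.types false
set_option linter.style.haveILetI false

universe u

open CategoryTheory CategoryTheory.Limits AlgebraicGeometry Opposite

namespace Groth.Agent.AffDescShf

open _root_.AlgSp

variable {S : Scheme.{u}} {Z : Sp S} {T T₁ V : Over S}

set_option synthInstance.maxHeartbeats 400000 in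
set_option maxHeartbeats 2000000 in
/-- A sheaf over a scheme `T` which over an fppf covering of `T` is a scheme with effective descent data is a scheme. -/
theorem exists_scheme_of_cover (c : T₁ ⟶ T) [Flat c.left] [Surjective c.left] [LocallyOfFinitePresentation c.left]
    (P : MorphismProperty Scheme.{u})
    (hdesc : ∀ D : _root_.Desc.SchDD c.left, P D.obj.hom → (_root_.Desc.toDD c.left).essImage D)
    (zT : Z ⟶ (yon S).obj T) (a : V ⟶ T₁) (ha : P a.left) (z : (yon S).obj V ⟶ Z)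
    (hz : z ≫ zT = (yon S).map (a ≫ c))
    (huniv : ∀ (W : Over S) (ζ : (yon S).obj W ⟶ Z) (x : W ⟶ T₁), ζ ≫ zT = (yon S).map (x ≫ c) →
      ∃! v : W ⟶ V, (yon S).map v ≫ z = ζ ∧ v ≫ a = x) :
    ∃ (X : Over S) (e : (yon S).obj X ≅ Z) (b : X ⟶ T), e.hom ≫ zT = (yon S).map b := by
  haveI : SchDesc.IsFpqc c.left := SchDesc.IsFpqc.of_locallyOfFinitePresentation c.left
  have hT1 : c.left ≫ T.hom = T₁.hom := Over.w c
  have hV : a.left ≫ T₁.hom = V.hom := Over.w a
  have hval : ∀ {W : Over S} {w w' : W ⟶ V}, (yon S).map w ≫ z = (yon S).map w' ≫ z →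
      (w ≫ a) ≫ c = (w' ≫ a) ≫ c := by
    intro W w w' h
    apply (yon S).map_injective
    rw [Category.assoc, Category.assoc, (yon S).map_comp w (a ≫ c), (yon S).map_comp w' (a ≫ c), ← hz, reassoc_of% h]
  have huni : ∀ {Q : Scheme.{u}} {v v' : Q ⟶ V.left}, SameVal z v v' → v ≫ a.left = v' ≫ a.left → v = v' := by
    intro Q v v' h e
    obtain ⟨h₁, h₂⟩ := h
    let w : Over.mk (v ≫ V.hom) ⟶ V := Over.homMk v rfl
    have hw : ((yon S).map w ≫ z) ≫ zT = (yon S).map ((w ≫ a) ≫ c) := by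
      rw [Category.assoc, hz, ← Functor.map_comp, Category.assoc]
    have := (huniv _ _ (w ≫ a) hw).unique ⟨rfl, rfl⟩ (y₂ := Over.homMk v' h₁)
      ⟨h₂.symm, Over.OverMorphism.ext e.symm⟩
    exact congrArg CommaMorphism.left this
  have hex : ∀ {Q : Scheme.{u}} (v : Q ⟶ V.left) (x : Q ⟶ T₁.left), (v ≫ a.left) ≫ c.left = x ≫ c.left →
      ∃ v' : Q ⟶ V.left, v' ≫ a.left = x ∧ SameVal z v v' := by
    intro Q v x h
    let w : Over.mk (v ≫ V.hom) ⟶ V := Over.homMk v rfl
    let x' : Over.mk (v ≫ V.hom) ⟶ T₁ := Over.homMk x (by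
      change x ≫ T₁.hom = v ≫ V.hom
      rw [← hV, ← hT1, ← Category.assoc x, ← h]
      simp only [Category.assoc])
    have hx' : ((yon S).map w ≫ z) ≫ zT = (yon S).map (x' ≫ c) := by
      rw [Category.assoc, hz, ← Functor.map_comp]
      congr 1
      exact Over.OverMorphism.ext ((Category.assoc _ _ _).symm.trans h)
    obtain ⟨w', ⟨hw1, hw2⟩, -⟩ := huniv _ _ x' hx'
    exact ⟨w'.left, congrArg CommaMorphism.left hw2, (sameVal_iff w w').2 hw1.symm⟩
  choose mv hmv₁ hmv₂ using @hex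
  let D : _root_.Desc.SchDD c.left :=
    { obj := Over.mk a.left
      φ := fun Q x₀ x₁ h =>
        { toFun := fun v => ⟨mv v.1 x₁ ((congrArg (· ≫ c.left) v.2).trans h), hmv₁ _ _ _⟩
          invFun := fun v => ⟨mv v.1 x₀ ((congrArg (· ≫ c.left) v.2).trans h.symm), hmv₁ _ _ _⟩
          left_inv := fun v => Subtype.ext (huni ((hmv₂ _ _ _).trans (hmv₂ _ _ _)).symm ((hmv₁ _ _ _).trans v.2.symm))
          right_inv := fun v => Subtype.ext (huni ((hmv₂ _ _ _).trans (hmv₂ _ _ _)).symm ((hmv₁ _ _ _).trans v.2.symm)) }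
      φ_natural := fun Q Q₁ g x₀ x₁ h h' v v' e => huni ((hmv₂ v'.1 _ _).symm.trans (e ▸ (hmv₂ v.1 _ _).comp g))
        (((hmv₁ _ _ _).trans (congrArg (g ≫ ·) (hmv₁ _ _ _)).symm).trans (Category.assoc _ _ _).symm)
      φ_self := fun Q x v => Subtype.ext (huni (hmv₂ _ _ _).symm ((hmv₁ _ _ _).trans v.2.symm))
      φ_comp := fun Q x₀ x₁ x₂ h h' v => Subtype.ext (huni
        (((hmv₂ v.1 _ _).trans (hmv₂ _ _ _)).symm.trans (hmv₂ v.1 _ _)) ((hmv₁ _ _ _).trans (hmv₁ _ _ _).symm)) }
  obtain ⟨U, ⟨e⟩⟩ := hdesc D ha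
  let el : pullback c.left U.hom ⟶ V.left := e.hom.hom.left
  let el' : V.left ⟶ pullback c.left U.hom := e.inv.hom.left
  have he1 : el ≫ el' = 𝟙 _ := congrArg (fun k => k.hom.left) e.hom_inv_id
  have he2 : el' ≫ el = 𝟙 _ := congrArg (fun k => k.hom.left) e.inv_hom_id
  have hela : el' ≫ pullback.fst c.left U.hom = a.left := Over.w e.inv.hom
  let π₀ : V.left ⟶ U.left := el' ≫ pullback.snd c.left U.hom
  haveI : IsIso el' := ⟨el, he2, he1⟩
  have hpb : IsPullback a.left π₀ c.left U.hom :=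
    (IsPullback.of_hasPullback c.left U.hom).of_iso (asIso el').symm (Iso.refl _) (Iso.refl _) (Iso.refl _)
      (by simp [← hela]) (by simp [π₀]) (by simp) (by simp)
  have hiff : ∀ {Q : Scheme.{u}} (v v' : Q ⟶ V.left), SameVal z v v' ↔ v ≫ π₀ = v' ≫ π₀ := by
    intro Q v v'
    have hkey : ∀ (h : (v ≫ a.left) ≫ c.left = (v' ≫ a.left) ≫ c.left),
        mv v (v' ≫ a.left) h ≫ π₀ = v ≫ π₀ := by
      intro h
      have := e.inv.comm (v ≫ a.left) (v' ≫ a.left) h ⟨v, rfl⟩
        ⟨v ≫ el', by rw [Category.assoc]; exact congrArg (v ≫ ·) hela⟩ rfl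
      have h2 := congrArg (· ≫ pullback.snd c.left U.hom) this
      refine ((Category.assoc _ _ _).symm.trans (h2.symm.trans ?_)).trans (Category.assoc _ _ _)
      exact pullback.lift_snd _ _ _
    constructor
    · intro h
      obtain ⟨h₁, h₂⟩ := h
      have hc : (v ≫ a.left) ≫ c.left = (v' ≫ a.left) ≫ c.left :=
        congrArg CommaMorphism.left (hval h₂)
      rw [← hkey hc, huni ((hmv₂ v _ hc).symm.trans ⟨h₁, h₂⟩) (hmv₁ v _ hc)]
    · intro h
      have hc : (v ≫ a.left) ≫ c.left = (v' ≫ a.left) ≫ c.left := by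
        rw [Category.assoc, Category.assoc, hpb.w, reassoc_of% h]
      have : mv v (v' ≫ a.left) hc = v' := hpb.hom_ext (hmv₁ v _ hc) ((hkey hc).trans h)
      exact this ▸ hmv₂ v _ hc
  let X : Over S := Over.mk (U.hom ≫ T.hom)
  let b : X ⟶ T := Over.homMk U.hom rfl
  let π : V ⟶ X := Over.homMk π₀ (by
    change π₀ ≫ U.hom ≫ T.hom = V.hom
    rw [← hpb.w_assoc, hT1, hV])
  have hπb : π ≫ b = a ≫ c := Over.OverMorphism.ext hpb.w.symm
  haveI : Flat π.left := MorphismProperty.of_isPullback hpb ‹Flat c.left›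
  haveI : LocallyOfFinitePresentation π.left :=
    MorphismProperty.of_isPullback hpb ‹LocallyOfFinitePresentation c.left›
  haveI : Surjective π.left := MorphismProperty.of_isPullback hpb ‹Surjective c.left›
  haveI := ASp.epi_yon_map π
  have hk := IsPullback.of_hasPullback π π
  obtain ⟨φ, hφ⟩ := ASp.exists_desc_of_epi ((yon S).map π) (hk.map (yon S)) z
    ((sameVal_iff _ _).1 ((hiff _ _).2 (congrArg CommaMorphism.left hk.w)))
  have hφT : φ ≫ zT = (yon S).map b := by
    rw [← cancel_epi ((yon S).map π), reassoc_of% hφ, hz, ← Functor.map_comp, hπb]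
  have key : ∀ (W : Over S) (ζ : (yon S).obj W ⟶ Z), ∃! u : W ⟶ X, (yon S).map u ≫ φ = ζ := by
    intro W ζ
    obtain ⟨w₀, hw₀⟩ := (yon S).map_surjective (ζ ≫ zT)
    let P₀ : Over S := Over.mk (pullback.fst w₀.left c.left ≫ W.hom)
    let pr : P₀ ⟶ W := Over.homMk (pullback.fst _ _) rfl
    let x : P₀ ⟶ T₁ := Over.homMk (pullback.snd _ _) (by
      change pullback.snd w₀.left c.left ≫ T₁.hom = pullback.fst w₀.left c.left ≫ W.hom
      rw [← hT1, ← pullback.condition_assoc, Over.w w₀])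
    have hprx : pr ≫ w₀ = x ≫ c := Over.OverMorphism.ext pullback.condition
    haveI : SchDesc.IsFpqc (pullback.fst w₀.left c.left) :=
      SchDesc.IsFpqc.of_isPullback (IsPullback.of_hasPullback w₀.left c.left).flip
    haveI : Flat pr.left := inferInstanceAs (Flat (pullback.fst _ _))
    haveI : LocallyOfFinitePresentation pr.left := inferInstanceAs (LocallyOfFinitePresentation (pullback.fst _ _))
    haveI : Surjective pr.left := inferInstanceAs (Surjective (pullback.fst _ _))
    haveI := ASp.epi_yon_map pr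
    have hζ : ((yon S).map pr ≫ ζ) ≫ zT = (yon S).map (x ≫ c) := by
      rw [Category.assoc, ← hw₀, ← Functor.map_comp, hprx]
    obtain ⟨v, ⟨hv, hva⟩, -⟩ := huniv P₀ _ x hζ
    let ul : W.left ⟶ U.left := EffectiveEpi.desc (pullback.fst w₀.left c.left) (v.left ≫ π₀) (fun {Q} g₁ g₂ h => by
      let R : Over S := Over.mk (g₁ ≫ pullback.fst w₀.left c.left ≫ W.hom)
      let k₁ : R ⟶ P₀ := Over.homMk g₁ rfl
      let k₂ : R ⟶ P₀ := Over.homMk g₂ (by
        change g₂ ≫ pullback.fst w₀.left c.left ≫ W.hom = g₁ ≫ pullback.fst w₀.left c.left ≫ W.hom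
        rw [← Category.assoc, ← Category.assoc, h])
      have hkk : k₁ ≫ pr = k₂ ≫ pr := Over.OverMorphism.ext h
      have : SameVal z (g₁ ≫ v.left) (g₂ ≫ v.left) := (sameVal_iff (k₁ ≫ v) (k₂ ≫ v)).2 (by
        rw [Functor.map_comp, Functor.map_comp, Category.assoc, Category.assoc, hv,
          ← Functor.map_comp_assoc, ← Functor.map_comp_assoc, hkk])
      simpa only [Category.assoc] using (hiff _ _).1 this)
    have hul : pullback.fst w₀.left c.left ≫ ul = v.left ≫ π₀ := EffectiveEpi.fac _ _ _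
    let u₀ : W ⟶ X := Over.homMk ul (by
      haveI : Epi (pullback.fst w₀.left c.left) := inferInstance
      rw [← cancel_epi (pullback.fst w₀.left c.left), reassoc_of% hul]
      exact (congrArg (v.left ≫ ·) (Over.w π)).trans (Over.w v))
    have hu₀ : pr ≫ u₀ = v ≫ π := Over.OverMorphism.ext hul
    refine ⟨u₀, ?_, fun u hu => ?_⟩
    · dsimp only
      rw [← cancel_epi ((yon S).map pr), ← Functor.map_comp_assoc, hu₀, Functor.map_comp_assoc, hφ, hv]
    · have hub : u ≫ b = w₀ := (yon S).map_injective (by rw [Functor.map_comp, ← hφT, reassoc_of% hu, hw₀])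
      obtain ⟨t, ht₁, ht₂⟩ : ∃ t : P₀ ⟶ V, t ≫ a = x ∧ t ≫ π = pr ≫ u := by
        let tl : P₀.left ⟶ V.left := hpb.lift x.left (pr.left ≫ u.left) (by
          have h := congrArg CommaMorphism.left hprx
          rw [← hub] at h
          simp only [Over.comp_left] at h
          rw [Category.assoc]
          exact h.symm)
        exact ⟨Over.homMk tl (by rw [← hV, ← Category.assoc, hpb.lift_fst]; exact Over.w x),
          Over.OverMorphism.ext (hpb.lift_fst _ _ _), Over.OverMorphism.ext (hpb.lift_snd _ _ _)⟩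
      have htv : t = v := (huniv P₀ ((yon S).map pr ≫ ζ) x hζ).unique
        ⟨by rw [← hφ, ← Functor.map_comp_assoc, ht₂, Functor.map_comp_assoc, hu], ht₁⟩ ⟨hv, hva⟩
      haveI : Epi pr.left := inferInstanceAs (Epi (pullback.fst w₀.left c.left))
      haveI : Epi pr := Over.epi_of_epi_left pr
      rw [← cancel_epi pr, ← ht₂, htv, hu₀]
  have : ∀ W, IsIso (((sheafToPresheaf (J S) (Type (u + 1))).map φ).app W) := fun W => by
    refine (isIso_iff_bijective _).2 ⟨fun x y e => ?_, fun c => ?_⟩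
    · obtain ⟨x⟩ := x
      obtain ⟨y⟩ := y
      refine congrArg ULift.up ((key W.unop ((J S).uliftYonedaEquiv.{u + 1}.symm (φ.hom.app W ⟨x⟩))).unique ?_ ?_)
      · exact (J S).uliftYonedaEquiv.{u + 1}.injective (Eq.trans (by simp; rfl) (Equiv.apply_symm_apply _ _).symm)
      · exact (J S).uliftYonedaEquiv.{u + 1}.injective
          ((Eq.trans (by simp; rfl) e.symm).trans (Equiv.apply_symm_apply _ _).symm)
    · obtain ⟨u, hu, -⟩ := key W.unop ((J S).uliftYonedaEquiv.{u + 1}.symm c)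
      refine ⟨⟨u⟩, ?_⟩
      have := congrArg (J S).uliftYonedaEquiv.{u + 1} hu
      rw [Equiv.apply_symm_apply] at this
      exact this
  haveI : IsIso ((sheafToPresheaf (J S) (Type (u + 1))).map φ) := NatIso.isIso_of_isIso_app _
  haveI : IsIso φ := isIso_of_fully_faithful (sheafToPresheaf (J S) (Type (u + 1))) φ
  exact ⟨X, asIso φ, b, hφT⟩

end Groth.Agent.AffDescShf
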